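import Groth.Agent.AbVar.K505.JacBase
import Groth.Agent.PicF.K247.GclBC
import Groth.Agent.JacVar.K532.Dict

/-!
# Base change of a Jacobian and of its Abel map along a field extension

For `f : C ⟶ Spec k`, `s : Spec K ⟶ Spec k` and a Jacobian `(J, ξ)` of `C` in the rigidified sense:
* `xb f s J ξ`: the universal class on `C_K × J_K`, `isJac_bc`;
* `cls_bc`: the class of a point of `J_K` in terms of the class of the corresponding point of `J`;
* `jb`, `isAbel_bc`: the base change of the Abel map is the Abel map.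
-/

set_option autoImplicit false
universe u
open CategoryTheory CategoryTheory.Limits AlgebraicGeometry MonoidalCategory CartesianMonoidalCategory MonObj

namespace K128.BcJac

open Groth.Agent Groth.Agent.Sga7.H732 Groth.Agent.Sga7.H732.Hedge Groth.Agent.Fga.RigGrp Groth.Agent.Grpsch.PicGrp
open Groth.Agent.Sga7.H734.JacBC Groth.Agent.Sga3B.BcPts Groth.Agent.Etcore.FibreDeg Groth.Agent.Etcore.DegZero
open Groth.Agent.Fga.JacSum K247.BC K247.GclBC

variable {k K : Type u} [Field k] [Field K] {C : Scheme.{u}} (f : C ⟶ Spec (CommRingCat.of k))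
  (s : Spec (CommRingCat.of K) ⟶ Spec (CommRingCat.of k))

theorem hq : IsPullback (pullback.fst f s) (pullback.snd f s) f s := IsPullback.of_hasPullback f s

section sec

variable {f} {σ : Spec (CommRingCat.of k) ⟶ C} (hσ : σ ≫ f = 𝟙 (Spec (CommRingCat.of k)))

/-- The base change of a section. -/
noncomputable def sb : Spec (CommRingCat.of K) ⟶ pullback f s :=
  pullback.lift (s ≫ σ) (𝟙 _) (by rw [Category.assoc, hσ, Category.comp_id, Category.id_comp])

theorem sb_fst : sb s hσ ≫ pullback.fst f s = s ≫ σ := pullback.lift_fst _ _ _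

theorem sb_snd : sb s hσ ≫ pullback.snd f s = 𝟙 _ := pullback.lift_snd _ _ _

end sec

section av

/-- The tautological morphism. -/
noncomputable def av (J : Over (Spec (CommRingCat.of k))) : (Over.map s).obj (Red.bc s J) ⟶ J :=
  (bcEquiv s (Red.bc s J) J).symm (𝟙 _)

theorem map_av {J : Over (Spec (CommRingCat.of k))} {T : Over (Spec (CommRingCat.of K))} (g : T ⟶ Red.bc s J) :
    (Over.map s).map g ≫ av s J = (bcEquiv s T J).symm g := by
  rw [av, ← comp_bcEquiv_symm, Category.comp_id]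

/-- The universal class of the base change. -/
noncomputable def xb {J : Over (Spec (CommRingCat.of k))} (ξ : Pic (PicF.XT f J)) :
    Pic (PicF.XT (pullback.snd f s) (Red.bc s J)) := cc (hq f s) ξ (av s J)

theorem pull_xb {J : Over (Spec (CommRingCat.of k))} (ξ : Pic (PicF.XT f J)) {T : Over (Spec (CommRingCat.of K))}
    (g : T ⟶ Red.bc s J) : pull (PicF.XTmap (pullback.snd f s) g) (xb f s ξ) =
      pull (io (hq f s) T) (pull (PicF.XTmap f ((bcEquiv s T J).symm g)) ξ) := by
  rw [xb, ← cc_comp, map_av, cc_eq]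

end av

section jac

variable {f} [IsProper f] {σ : Spec (CommRingCat.of k) ⟶ C} {hσ : σ ≫ f = 𝟙 (Spec (CommRingCat.of k))}
  {J : Over (Spec (CommRingCat.of k))} [GrpObj J] {ξ : Pic (PicF.XT f J)} (h : IsJac f σ hσ J ξ)

include h in
theorem isJac_bc : IsJac (pullback.snd f s) (sb s hσ) (sb_snd s hσ) (Red.bc s J) (xb f s ξ) := by
  refine ⟨cc_mem (hq f s) ξ σ hσ _ _ (sb_fst s hσ) h.mem (av s J), deg_isPullback (isPullback_cc (hq f s) (av s J)) h.deg,
    ?_, ?_⟩
  · intro T g g'
    rw [pull_xb, pull_xb, pull_xb, ← map_mul, ← h.mul]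
    have h1 : (bcEquiv s T J).symm (g * g') = (bcEquiv s T J).symm g * (bcEquiv s T J).symm g' :=
      map_mul (bcMulEquiv s T J).symm g g'
    rw [h1]
  · intro T c hc hc0
    have hiso := isIso_io (hq f s) T
    let c₀ := pull (inv (io (hq f s) T)) c
    have e0 : pull (io (hq f s) T) c₀ = c := by
      rw [← pull_comp, IsIso.hom_inv_id, pull_id]
    have h1 : c₀ ∈ Rg f σ hσ ((Over.map s).obj T) := by
      rw [mem_Rg, ← sec_io (hq f s) σ hσ (sb s hσ) (sb_snd s hσ) (sb_fst s hσ) T, pull_comp, e0]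
      exact hc
    have h2 : FGA.HasFibreDegreeZeroCl f ((Over.map s).obj T) (Fga.RigGrp.toCl c₀) := by
      rw [← Groth.Agent.Sga7.H734.JacBC.toCl_eq, hasFibreDegreeZeroCl_iff] at hc0 ⊢
      intro t
      have h3 := fdeg_isPullback (isPullback_io (hq f s) T) t c₀
      rw [e0, hc0 t] at h3
      exact h3.symm
    obtain ⟨g₀, hg₀, hu⟩ := h.univ _ c₀ h1 h2
    have hg₀' : pull (PicF.XTmap f g₀) ξ = c₀ := hg₀
    refine ⟨bcEquiv s T J g₀, ?_, ?_⟩
    · change pull (PicF.XTmap (pullback.snd f s) (bcEquiv s T J g₀)) (xb f s ξ) = c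
      rw [pull_xb, Equiv.symm_apply_apply, hg₀', e0]
    · intro g hg
      have hg' : pull (PicF.XTmap (pullback.snd f s) g) (xb f s ξ) = c := hg
      rw [pull_xb] at hg'
      have h3 : (bcEquiv s T J).symm g = g₀ := hu _ (by
        change pull (PicF.XTmap f ((bcEquiv s T J).symm g)) ξ = pull (inv (io (hq f s) T)) c
        rw [← hg', ← pull_comp, IsIso.inv_hom_id, pull_id])
      rw [← h3, Equiv.apply_symm_apply]

theorem cls_bc {T : Over (Spec (CommRingCat.of K))} (g : T ⟶ Red.bc s J) :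
    Abel.cls (isJac_bc s h) T g =
      pull (io (hq f s) T) (Abel.cls h ((Over.map s).obj T) ((bcEquiv s T J).symm g)) :=
  pull_xb f s ξ g

/-- The projection `C_K ⟶ C`. -/
noncomputable def qm (f : C ⟶ Spec (CommRingCat.of k)) : (Over.map s).obj (Over.mk (pullback.snd f s)) ⟶ Over.mk f :=
  Over.homMk (pullback.fst f s) pullback.condition

/-- The base change of the Abel map. -/
noncomputable def jb (j : Over.mk f ⟶ J) : Over.mk (pullback.snd f s) ⟶ Red.bc s J :=
  bcEquiv s (Over.mk (pullback.snd f s)) J (qm s f ≫ j)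

omit [IsProper f] [GrpObj J] in
theorem symm_comp_jb (j : Over.mk f ⟶ J) {T : Over (Spec (CommRingCat.of K))} (z : T ⟶ Over.mk (pullback.snd f s)) :
    (bcEquiv s T J).symm (z ≫ jb s j) = (Over.map s).map z ≫ qm s f ≫ j := by
  rw [comp_bcEquiv_symm, jb, Equiv.symm_apply_apply]

omit [IsProper f] in
theorem io_eq_cmp (T : Over (Spec (CommRingCat.of K))) : io (hq f s) T = cmp f s T := by
  apply pullback.hom_ext
  · exact (io_fst (hq f s) T).trans (cmp_fst f s T).symm
  · exact (io_snd (hq f s) T).trans (cmp_snd f s T).symm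

omit [IsProper f] in
theorem pull_io_norm (T : Over (Spec (CommRingCat.of K))) (c : Pic (PicF.XT f ((Over.map s).obj T))) :
    pull (io (hq f s) T) (norm f σ hσ ((Over.map s).obj T) c) =
      norm (pullback.snd f s) (sb s hσ) (sb_snd s hσ) T (pull (io (hq f s) T) c) := by
  rw [norm_apply, norm_apply, map_div]
  congr 1
  have h1 := io_snd (hq f s) T
  have h2 := sec_io (hq f s) σ hσ (sb s hσ) (sb_snd s hσ) (sb_fst s hσ) T
  rw [← pull_comp, ← pull_comp (PicF.secT (pullback.snd f s) _ _ T)]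
  erw [h1, h2]

variable [SmoothOfRelativeDimension 1 f] [SmoothOfRelativeDimension 1 (pullback.snd f s)]

theorem isAbel_bc {j : Over.mk f ⟶ J} (hj : K532.Dict.IsAbel h j) : K532.Dict.IsAbel (isJac_bc s h) (jb s j) := by
  intro T z
  rw [cls_bc, symm_comp_jb]
  have h1 : (Over.map s).map (Abel.ptHom z) ≫ qm s f = Abel.ptHom (dnPt f s z) := by
    ext1
    rfl
  have h2 := hj ((Over.map s).obj T) (dnPt f s z)
  have h3 : (Over.map s).map (Abel.ptHom z) ≫ qm s f ≫ j = Abel.ptHom (dnPt f s z) ≫ j := by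
    rw [← Category.assoc, h1]
  rw [h3]
  refine (congrArg (pull (io (hq f s) T)) h2).trans ?_
  rw [acl, acl, pull_io_norm, map_mul, map_inv]
  congr 1
  have h4 := pull_cmp_gcl f s z
  have h5 := pull_cmp_gcl f s (Pt.ofSection (sb_snd s hσ) T)
  have h6 : dnPt f s (Pt.ofSection (sb_snd s hσ) T) = Pt.ofSection hσ (dn s T) := by
    apply Subtype.ext
    change (T.hom ≫ sb s hσ) ≫ pullback.fst f s = (T.hom ≫ s) ≫ σ
    rw [Category.assoc, sb_fst, Category.assoc]
  rw [h6] at h5
  rw [io_eq_cmp]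
  exact congrArg₂ (fun a b => a⁻¹ * b) h4 h5

end jac

end K128.BcJac
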