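import Mathlib.AlgebraicGeometry.Sites.Fpqc
import Mathlib.AlgebraicGeometry.Morphisms.FlatMono
import Groth.Agent.FBase.K106.GeomRedProd
import Groth.Agent.VarietyA.GeomRed

/-!
# Descent of isomorphisms of separated reduced schemes over a perfect field

`C`, `C'` reduced separated schemes over a perfect field `k`, `s : Spec Ω ⟶ Spec k` an extension and `α : C_Ω ≅ C'_Ω` an
isomorphism over `Ω` whose base changes along any two `k`-morphisms `Spec K ⟶ Spec Ω`, `K` algebraically closed,
agree: then `C ≅ C'` over `k` (`exists_desc`).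
-/

set_option autoImplicit false
universe u
open CategoryTheory CategoryTheory.Limits AlgebraicGeometry

namespace K128.BcMor

open Groth.Agent

section up

variable {S S' S'' C C' C'' : Scheme.{u}} {f : C ⟶ S} {f' : C' ⟶ S} {f'' : C'' ⟶ S}
  {s : S' ⟶ S} {t : S'' ⟶ S} (i : S'' ⟶ S') (hi : i ≫ s = t)

/-- `C_{S''} ⟶ C_{S'}`. -/
noncomputable def up (f : C ⟶ S) : pullback f t ⟶ pullback f s :=
  pullback.lift (pullback.fst f t) (pullback.snd f t ≫ i) (by rw [Category.assoc, hi, pullback.condition])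

@[reassoc]
theorem up_fst (f : C ⟶ S) : up i hi f ≫ pullback.fst f s = pullback.fst f t := pullback.lift_fst _ _ _

@[reassoc]
theorem up_snd (f : C ⟶ S) : up i hi f ≫ pullback.snd f s = pullback.snd f t ≫ i := pullback.lift_snd _ _ _

variable (φ : pullback f s ⟶ pullback f' s) (hφ : φ ≫ pullback.snd f' s = pullback.snd f s)

/-- The base change of a morphism `C_{S'} ⟶ C'_{S'}`. -/
noncomputable def bcm : pullback f t ⟶ pullback f' t :=
  pullback.lift (up i hi f ≫ φ ≫ pullback.fst f' s) (pullback.snd f t) (by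
    rw [Category.assoc, Category.assoc, pullback.condition, reassoc_of% hφ, up_snd_assoc, hi])

@[reassoc]
theorem bcm_fst : bcm i hi φ hφ ≫ pullback.fst f' t = up i hi f ≫ φ ≫ pullback.fst f' s := pullback.lift_fst _ _ _

@[reassoc]
theorem bcm_snd : bcm i hi φ hφ ≫ pullback.snd f' t = pullback.snd f t := pullback.lift_snd _ _ _

@[reassoc]
theorem bcm_up : bcm i hi φ hφ ≫ up i hi f' = up i hi f ≫ φ := by
  apply pullback.hom_ext
  · rw [Category.assoc, up_fst, bcm_fst, Category.assoc]
  · rw [Category.assoc, up_snd, bcm_snd_assoc, Category.assoc, hφ, up_snd]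

theorem bcm_id : bcm i hi (𝟙 (pullback f s)) (Category.id_comp _) = 𝟙 _ := by
  apply pullback.hom_ext
  · rw [bcm_fst, Category.id_comp, up_fst, Category.id_comp]
  · rw [bcm_snd, Category.id_comp]

theorem bcm_comp (φ' : pullback f' s ⟶ pullback f'' s) (hφ' : φ' ≫ pullback.snd f'' s = pullback.snd f' s)
    (h : (φ ≫ φ') ≫ pullback.snd f'' s = pullback.snd f s) :
    bcm i hi (φ ≫ φ') h = bcm i hi φ hφ ≫ bcm i hi φ' hφ' := by
  apply pullback.hom_ext
  · rw [bcm_fst, Category.assoc, Category.assoc, bcm_fst, bcm_up_assoc]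
  · rw [bcm_snd, Category.assoc, bcm_snd, bcm_snd]

theorem inv_cond (α : pullback f s ≅ pullback f' s) (hα : α.hom ≫ pullback.snd f' s = pullback.snd f s) :
    α.inv ≫ pullback.snd f s = pullback.snd f' s := by
  rw [Iso.inv_comp_eq, hα]

theorem bcm_hom_inv (α : pullback f s ≅ pullback f' s) (hα : α.hom ≫ pullback.snd f' s = pullback.snd f s) :
    bcm i hi α.hom hα ≫ bcm i hi α.inv (inv_cond α hα) = 𝟙 _ := by
  rw [← bcm_comp i hi α.hom hα α.inv (inv_cond α hα) (by rw [Iso.hom_inv_id, Category.id_comp])]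
  have : ∀ (ψ : pullback f s ⟶ pullback f s) (hψ : ψ ≫ pullback.snd f s = pullback.snd f s), ψ = 𝟙 _ →
      bcm i hi ψ hψ = 𝟙 _ := by
    rintro ψ hψ rfl
    exact bcm_id i hi
  exact this _ _ α.hom_inv_id

theorem bcm_inv_hom (α : pullback f s ≅ pullback f' s) (hα : α.hom ≫ pullback.snd f' s = pullback.snd f s) :
    bcm i hi α.inv (inv_cond α hα) ≫ bcm i hi α.hom hα = 𝟙 _ := by
  rw [← bcm_comp i hi α.inv (inv_cond α hα) α.hom hα (by rw [Iso.inv_hom_id, Category.id_comp])]
  have : ∀ (ψ : pullback f' s ⟶ pullback f' s) (hψ : ψ ≫ pullback.snd f' s = pullback.snd f' s), ψ = 𝟙 _ →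
      bcm i hi ψ hψ = 𝟙 _ := by
    rintro ψ hψ rfl
    exact bcm_id i hi
  exact this _ _ α.inv_hom_id

theorem isIso_bcm (α : pullback f s ≅ pullback f' s) (hα : α.hom ≫ pullback.snd f' s = pullback.snd f s) :
    IsIso (bcm i hi α.hom hα) :=
  ⟨bcm i hi α.inv (inv_cond α hα), bcm_hom_inv i hi α hα, bcm_inv_hom i hi α hα⟩

theorem bcm_inv_eq {i' : S'' ⟶ S'} {hi' : i' ≫ s = t} (α : pullback f s ≅ pullback f' s)
    (hα : α.hom ≫ pullback.snd f' s = pullback.snd f s) (h : bcm i hi α.hom hα = bcm i' hi' α.hom hα) :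
    bcm i hi α.inv (inv_cond α hα) = bcm i' hi' α.inv (inv_cond α hα) := by
  have := isIso_bcm i hi α hα
  rw [← cancel_epi (bcm i hi α.hom hα), bcm_hom_inv, h, bcm_hom_inv]

end up

section desc

variable {k Ω : Type u} [Field k] [Field Ω] {s : Spec (CommRingCat.of Ω) ⟶ Spec (CommRingCat.of k)}
  {C C' : Scheme.{u}} {f : C ⟶ Spec (CommRingCat.of k)} {f' : C' ⟶ Spec (CommRingCat.of k)}

/-- A reduced scheme over a perfect field is geometrically reduced. -/
theorem geometricallyReduced [PerfectField k] (f : C ⟶ Spec (CommRingCat.of k)) [IsReduced C] :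
    GeometricallyReduced f := by
  let _ : C.Over (Spec (CommRingCat.of k)) := ⟨f⟩
  exact VarietyA.GeomRed.geometricallyReduced_of_generic_points k C fun _ _ η _ =>
    VarietyA.GeomRed.isGeomReducedAt_of_perfectField k C η

/-- Morphisms which agree on geometric points are equal. -/
theorem ext_geom {E Y Z : Scheme.{u}} [IsReduced E] (a b : E ⟶ Y) (g : Y ⟶ Z) [IsSeparated g] (hg : a ≫ g = b ≫ g)
    (H : ∀ (K : Type u) [Field K] [IsAlgClosed K] (x : Spec (CommRingCat.of K) ⟶ E), x ≫ a = x ≫ b) : a = b := by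
  refine ext_of_fromSpecResidueField_eq a b g Set.univ dense_univ (fun e _ => ?_) hg
  let K := AlgebraicClosure (E.residueField e)
  let φ : E.residueField e ⟶ CommRingCat.of K := CommRingCat.ofHom (algebraMap (E.residueField e) K)
  have hf : Flat (Spec.map φ) := by
    rw [Flat.SpecMap_iff]
    exact (RingHom.flat_algebraMap_iff (R := E.residueField e) (S := K)).2 inferInstance
  have hs : Surjective (Spec.map φ) := ⟨fun z => ⟨IsLocalRing.closedPoint K, Subsingleton.elim (α := PrimeSpectrum (E.residueField e)) _ _⟩⟩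
  rw [← cancel_epi (Spec.map φ), ← Category.assoc, ← Category.assoc]
  exact H K _

/-- Descent of a morphism. -/
theorem exists_mor [PerfectField k] [IsReduced (pullback f s)] [IsSeparated f']
    (φ : pullback f s ⟶ pullback f' s) (hφ : φ ≫ pullback.snd f' s = pullback.snd f s)
    (H : ∀ (K : Type u) [Field K] [IsAlgClosed K] (t : Spec (CommRingCat.of K) ⟶ Spec (CommRingCat.of k))
      (i₁ i₂ : Spec (CommRingCat.of K) ⟶ Spec (CommRingCat.of Ω)) (h₁ : i₁ ≫ s = t) (h₂ : i₂ ≫ s = t),
      bcm (f := f) (f' := f') i₁ h₁ φ hφ = bcm i₂ h₂ φ hφ) :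
    ∃ φ₀ : C ⟶ C', pullback.fst f s ≫ φ₀ = φ ≫ pullback.fst f' s := by
  let p := pullback.fst f s
  have hred : IsReduced (pullback p p) := by
    have h1 : IsPullback (pullback.fst p p) (pullback.snd p p ≫ pullback.snd f s) (p ≫ f) s :=
      (IsPullback.of_hasPullback p p).paste_vert (IsPullback.of_hasPullback f s)
    have := geometricallyReduced (p ≫ f)
    have h2 := K106.GeomRedProd.isReduced_pullback (p ≫ f) s
    exact isReduced_of_isOpenImmersion h1.isoPullback.hom
  have hs : Surjective s := ⟨fun z => ⟨IsLocalRing.closedPoint Ω, Subsingleton.elim (α := PrimeSpectrum k) _ _⟩⟩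
  have hfl : Flat s := inferInstance
  have hqc : QuasiCompact s := inferInstance
  have key : pullback.fst p p ≫ φ ≫ pullback.fst f' s = pullback.snd p p ≫ φ ≫ pullback.fst f' s := by
    have hw : ∀ z : pullback p p ⟶ pullback f s, z ≫ φ ≫ pullback.fst f' s ≫ f' = z ≫ p ≫ f := by
      intro z
      rw [pullback.condition, reassoc_of% hφ, ← pullback.condition]
    refine ext_geom _ _ f' ?_ ?_
    · simp only [Category.assoc]
      rw [hw, hw, pullback.condition_assoc]
    · intro K _ _ x
      let z₁ := x ≫ pullback.fst p p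
      let z₂ := x ≫ pullback.snd p p
      have hz : z₁ ≫ p = z₂ ≫ p := by
        simp only [z₁, z₂, Category.assoc, pullback.condition]
      let t := z₁ ≫ p ≫ f
      have h₁ : (z₁ ≫ pullback.snd f s) ≫ s = t := by
        rw [Category.assoc, ← pullback.condition]
      have h₂ : (z₂ ≫ pullback.snd f s) ≫ s = t := by
        rw [Category.assoc, ← pullback.condition]
        change z₂ ≫ p ≫ f = z₁ ≫ p ≫ f
        rw [reassoc_of% hz]
      let x' : Spec (CommRingCat.of K) ⟶ pullback f t := pullback.lift (z₁ ≫ p) (𝟙 _) (by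
        rw [Category.assoc, Category.id_comp])
      have e₁ : x' ≫ up _ h₁ f = z₁ := by
        apply pullback.hom_ext
        · rw [Category.assoc, up_fst, pullback.lift_fst]
        · rw [Category.assoc, up_snd, pullback.lift_snd_assoc, Category.id_comp]
      have e₂ : x' ≫ up _ h₂ f = z₂ := by
        apply pullback.hom_ext
        · rw [Category.assoc, up_fst, pullback.lift_fst]
          exact hz
        · rw [Category.assoc, up_snd, pullback.lift_snd_assoc, Category.id_comp]
      have h3 := H K t _ _ h₁ h₂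
      have h4 : ∀ (i : Spec (CommRingCat.of K) ⟶ Spec (CommRingCat.of Ω)) (hi : i ≫ s = t),
          (x' ≫ up i hi f) ≫ φ ≫ pullback.fst f' s = x' ≫ bcm i hi φ hφ ≫ pullback.fst f' t := by
        intro i hi
        rw [bcm_fst, Category.assoc]
      have h5 : z₁ ≫ φ ≫ pullback.fst f' s = z₂ ≫ φ ≫ pullback.fst f' s := by
        rw [← e₁, ← e₂, h4, h4, h3]
      simpa only [z₁, z₂, Category.assoc] using h5
  have key' : ∀ {T : Scheme.{u}} (a b : T ⟶ pullback f s), a ≫ p = b ≫ p →
      a ≫ φ ≫ pullback.fst f' s = b ≫ φ ≫ pullback.fst f' s := by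
    intro T a b hab
    have h1 := congrArg (fun z => pullback.lift a b hab ≫ z) key
    simpa only [pullback.lift_fst_assoc, pullback.lift_snd_assoc] using h1
  exact ⟨EffectiveEpi.desc p _ key', EffectiveEpi.fac p _ key'⟩

/-- **Descent of an isomorphism.** -/
theorem exists_desc [PerfectField k] [IsReduced (pullback f s)] [IsReduced (pullback f' s)] [IsSeparated f] [IsSeparated f']
    (α : pullback f s ≅ pullback f' s) (hα : α.hom ≫ pullback.snd f' s = pullback.snd f s)
    (H : ∀ (K : Type u) [Field K] [IsAlgClosed K] (t : Spec (CommRingCat.of K) ⟶ Spec (CommRingCat.of k))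
      (i₁ i₂ : Spec (CommRingCat.of K) ⟶ Spec (CommRingCat.of Ω)) (h₁ : i₁ ≫ s = t) (h₂ : i₂ ≫ s = t),
      bcm (f := f) (f' := f') i₁ h₁ α.hom hα = bcm i₂ h₂ α.hom hα) :
    ∃ α₀ : C ≅ C', α₀.hom ≫ f' = f := by
  have hs : Surjective s := ⟨fun z => ⟨IsLocalRing.closedPoint Ω, Subsingleton.elim (α := PrimeSpectrum k) _ _⟩⟩
  have hfl : Flat s := inferInstance
  have hqc : QuasiCompact s := inferInstance
  obtain ⟨a, ha⟩ := exists_mor (f := f) (f' := f') α.hom hα H
  obtain ⟨b, hb⟩ := exists_mor (f := f') (f' := f) α.inv (inv_cond α hα) fun K _ _ t i₁ i₂ h₁ h₂ =>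
    bcm_inv_eq i₁ h₁ α hα (H K t i₁ i₂ h₁ h₂)
  refine ⟨⟨a, b, ?_, ?_⟩, ?_⟩
  · rw [← cancel_epi (pullback.fst f s), reassoc_of% ha, hb, α.hom_inv_id_assoc, Category.comp_id]
  · rw [← cancel_epi (pullback.fst f' s), reassoc_of% hb, ha, α.inv_hom_id_assoc, Category.comp_id]
  · rw [← cancel_epi (pullback.fst f s), reassoc_of% ha, pullback.condition, reassoc_of% hα, pullback.condition]

end desc

end K128.BcMor
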