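import Groth.Agent.JacVar.K533.ThetaLocus
import Groth.Agent.Picfga.CurveP1

/-!
# Field-valued points of the theta locus

`mem_theta_iff`: a point of the Jacobian with values in an algebraically closed field `K` lies in the theta locus of `N` iff
the corresponding class on `C_K`, twisted by `N`, has a nonzero section.
-/

set_option autoImplicit false
set_option backward.isDefEq.respectTransparency false
set_option linter.unusedSectionVars false
universe u
open CategoryTheory CategoryTheory.Limits AlgebraicGeometry Opposite TopologicalSpace MonObj MonoidalCategory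
  CartesianMonoidalCategory

namespace K128.ThetaPt

open Groth.Agent Groth.Agent.Grpsch Groth.Agent.Grpsch.PicGrp Groth.Agent.Fga.RigGrp Groth.Agent.Fga.JacSum
open Groth.Agent.Fga.JacAlg Groth.Agent.Picfga.ChiDef Groth.Agent.Fga.JacSurj Groth.Agent.Fdesc.LocGen
open Groth.Agent.Picfga.P1Def Groth.Agent.Picfga.LatH0 Groth.Agent.Picfga.PicGood Groth.Agent.Picfga.SecGraph
open Groth.Agent.Sga7.H732 Groth.Agent.Sga7.H732.Hedge Groth.Agent.Sga7.H732.Abel
open K914.Curve K914.Cls K914.Points K914.HField K914.Semi K914.Fine K533.Cst K533.ThetaFam K533.ThetaLocus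
open K531.Perm K531.Albanese

variable {k : Type u} [Field k] {X : Scheme.{u}} {f : X ⟶ Spec (CommRingCat.of k)}

/-- The locus of non-vanishing of `H¹` is closed. -/
theorem isClosed_h1 (P : P1Data f) {Z : Over (Spec (CommRingCat.of k))} {E : (PicF.XT f Z).Modules}
    (hE : PicF.IsInvertible E) : IsClosed {z | ¬ H1van P (ptOver Z z) (pb f (ptHom Z z) E)} := by
  rw [← isOpen_compl_iff, isOpen_iff_forall_mem_open]
  intro z hz
  have hz' : H1van P (ptOver Z z) (pb f (ptHom Z z) E) := by
    by_contra hc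
    exact hz hc
  obtain ⟨U, hzU, hU⟩ := exists_h1van_nhd P hE z hz'
  refine ⟨U, fun y hy hc => hc ?_, U.2, hzU⟩
  have : IsAffine (ptOver Z y).left := inferInstanceAs (IsAffine (Spec _))
  refine hU (ptOver Z y) (ptHom Z y) fun t => ?_
  have h1 : (ptHom Z y).left t = y := Scheme.fromSpecResidueField_apply _ _
  rw [h1]
  exact hy

variable [IsProper f] [Smooth f] [GeometricallyConnected f] [SmoothOfRelativeDimension 1 f]
  {σ : Spec (CommRingCat.of k) ⟶ X} {hσ : σ ≫ f = 𝟙 (Spec (CommRingCat.of k))}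
  {J : Over (Spec (CommRingCat.of k))} [GrpObj J] {ψ : (ModFun.PicDeg f 0).Hom ⊤ J}
  {ξ : Pic (PicF.XT f J)}

theorem mem_theta_iff (h : IsJac f σ hσ J ξ) (hψ : CompatCl f σ hσ ψ ξ) (hX : Curve.IsSmoothProperCurve k X f)
    {N : X.Modules} (hN : PicF.IsInvertible N)
    {K : Type u} [Field K] [IsAlgClosed K] {t : Spec (CommRingCat.of K) ⟶ Spec (CommRingCat.of k)}
    (g : Over.mk t ⟶ J) (p : Spec (CommRingCat.of K)) :
    g.left p ∈ Jac.thetaLocus f 0 ψ N ↔
      0 < hK f t 0 (pull (PicF.XTmap f g) ξ * cst f (Over.mk t) (mk N hN)) := by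
  constructor
  · intro hm
    obtain ⟨P⟩ := Groth.Agent.Picfga.CurveP1.exists_p1Data hX
    obtain ⟨F, hF, hFc⟩ := exists_mk (cst f J (om f * (mk N hN)⁻¹) * ξ⁻¹)
    have h1 := theta_subset (N := N) hψ hN P hF hFc.symm hm
    rw [(isClosed_h1 P hF).closure_eq] at h1
    have h2 : ¬ H1van P (ptOver J (g.left p)) (pb f (ptHom J (g.left p)) F) := h1
    rw [h1van_iff_hK f P g p F hF, ← hFc, map_mul, pull_cst, map_inv, serre, map_mul, map_inv, cst_om] at h2
    have e : omK f t * (omK f t * (cst f (Over.mk t) (mk N hN))⁻¹ * (pull (PicF.XTmap f g) ξ)⁻¹)⁻¹ =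
        pull (PicF.XTmap f g) ξ * cst f (Over.mk t) (mk N hN) := by
      generalize omK f t = o
      generalize cst f (Over.mk t) (mk N hN) = c
      generalize pull (PicF.XTmap f g) ξ = x
      apply Additive.ofMul.injective
      simp only [ofMul_mul, ofMul_inv]
      abel
    rw [e] at h2
    exact Nat.pos_of_ne_zero h2
  · intro hpos
    exact subset_closure (mem_jumpLocus h hψ hN g hpos p)

end K128.ThetaPt
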