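import Groth.Agent.JacVar.K128.TorKey
import Groth.Agent.JacVar.K128.BcJac
import Groth.Agent.Jac.K914.HField

/-!
# Torelli's theorem over an algebraically closed extension, from data over the base field
-/

set_option autoImplicit false
set_option linter.unusedSectionVars false
universe u
open CategoryTheory CategoryTheory.Limits AlgebraicGeometry MonoidalCategory CartesianMonoidalCategory MonObj

namespace K128.TorK

open Groth.Agent Groth.Agent.Sga7.H732 Groth.Agent.Sga7.H732.Hedge Groth.Agent.Fga.RigGrp Groth.Agent.Grpsch.PicGrp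
open Groth.Agent.Sga7.H734.JacBC Groth.Agent.Sga3B.BcPts Groth.Agent.Picfga.ChiDef
open Groth.Agent.Fga.JacSum K247.BC K247.GclBC K532.UnitBase K532.Dict K128.BcJac

variable {k K : Type u} [Field k] [Field K] {C : Scheme.{u}} {f : C ⟶ Spec (CommRingCat.of k)}
  (s : Spec (CommRingCat.of K) ⟶ Spec (CommRingCat.of k))

/-- `Spec K` over `k`, regarded over `K`, then over `k`. -/
noncomputable def un : Over.mk s ⟶ (Over.map s).obj (𝟙_ (Over (Spec (CommRingCat.of K)))) :=
  Over.homMk (𝟙 (Spec (CommRingCat.of K))) (by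
    change 𝟙 _ ≫ 𝟙 _ ≫ s = s
    rw [Category.id_comp, Category.id_comp])

/-- The inverse of `un`. -/
noncomputable def nu : (Over.map s).obj (𝟙_ (Over (Spec (CommRingCat.of K)))) ⟶ Over.mk s :=
  Over.homMk (𝟙 (Spec (CommRingCat.of K))) (by
    change 𝟙 _ ≫ s = 𝟙 _ ≫ s
    rfl)

theorem un_nu : un s ≫ nu s = 𝟙 _ := by
  ext1
  exact Category.id_comp _

variable {J : Over (Spec (CommRingCat.of k))}

/-- A rational point of `J_K` as a `K`-valued point of `J`. -/
noncomputable def fl (b : 𝟙_ (Over (Spec (CommRingCat.of K))) ⟶ Red.bc s J) : Over.mk s ⟶ J :=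
  un s ≫ (bcEquiv s _ J).symm b

/-- A `K`-valued point of `J` as a rational point of `J_K`. -/
noncomputable def sh (x : Over.mk s ⟶ J) : 𝟙_ (Over (Spec (CommRingCat.of K))) ⟶ Red.bc s J :=
  bcEquiv s _ J (nu s ≫ x)

theorem fl_sh (x : Over.mk s ⟶ J) : fl s (sh s x) = x := by
  rw [fl, sh, Equiv.symm_apply_apply, ← Category.assoc, un_nu, Category.id_comp]

theorem ui_io : ui (pullback.snd f s) ≫ io (hq f s) (𝟙_ (Over (Spec (CommRingCat.of K)))) = PicF.XTmap f (un s) := by
  apply pullback.hom_ext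
  · rw [Category.assoc, io_fst]
    have h1 := ui_fst_assoc (pullback.snd f s) (pullback.fst f s)
    refine h1.trans ?_
    exact (XTmap_fst f (un s)).symm
  · rw [Category.assoc]
    have h1 := io_snd (hq f s) (𝟙_ (Over (Spec (CommRingCat.of K))))
    have h2 := XTmap_XTproj f (un s)
    have h3 := ui_proj (pullback.snd f s)
    refine (congrArg (fun z => ui (pullback.snd f s) ≫ z) h1).trans (h3.trans ?_)
    refine Eq.trans ?_ h2.symm
    exact (Category.comp_id _).symm

variable [IsProper f] {σ : Spec (CommRingCat.of k) ⟶ C} {hσ : σ ≫ f = 𝟙 (Spec (CommRingCat.of k))}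
  [GrpObj J] {ξ : Pic (PicF.XT f J)} (h : IsJac f σ hσ J ξ)

theorem kcl_bc (b : 𝟙_ (Over (Spec (CommRingCat.of K))) ⟶ Red.bc s J) :
    kcl (isJac_bc s h) b = (pull (PicF.XTmap f (fl s b)) ξ : Pic (PicF.XT f (Over.mk s))) := by
  rw [kcl_apply, cls_bc, ← pull_comp]
  have h1 : pull (PicF.XTmap f (fl s b)) ξ = pull (PicF.XTmap f (un s)) (Abel.cls h _ ((bcEquiv s _ J).symm b)) := by
    rw [Abel.cls_apply, ← pull_comp, ← XTmap_comp]
    rfl
  refine Eq.trans ?_ h1.symm
  exact congrArg (fun m => pull m (Abel.cls h ((Over.map s).obj (𝟙_ (Over (Spec (CommRingCat.of K)))))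
    ((bcEquiv s (𝟙_ (Over (Spec (CommRingCat.of K)))) J).symm b))) (ui_io (f := f) s)

end K128.TorK
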