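import Groth.Agent.JacVar.K531.TorMain

/-!
# Torelli's theorem from a comparison of the theta loci on rational points
-/

set_option autoImplicit false
set_option linter.unusedSectionVars false
universe u
open CategoryTheory CategoryTheory.Limits AlgebraicGeometry MonoidalCategory CartesianMonoidalCategory
open scoped MonObj

namespace K128.TorKey

open Groth.Agent Groth.Agent.Grpsch.PicGrp Groth.Agent.Fga.RigGrp Groth.Agent.Sga7.H732.Hedge
open Groth.Agent.Sga7.H732 K532.UnitBase K532.CurvePic K532.CurvePts K532.Dict Groth.Agent.Fga.JacSum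
open Groth.Agent.Fga.JacFactor K532.Setup K532.KPts K532.Wr K532.MultPts K532.Theta1 K532 K531.Fams K531.Martens
open K531.ThetaLoc K531.Torelli K531.TorMain

variable {k : Type u} [Field k] [IsAlgClosed k]
  {C : Scheme.{u}} [C.Over (Spec (CommRingCat.of k))] (hX : IsCurve k C)
  [IsProper (C ↘ Spec (CommRingCat.of k))] [SmoothOfRelativeDimension 1 (C ↘ Spec (CommRingCat.of k))]
  {C' : Scheme.{u}} [C'.Over (Spec (CommRingCat.of k))] (hX' : IsCurve k C')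
  [IsProper (C' ↘ Spec (CommRingCat.of k))] [SmoothOfRelativeDimension 1 (C' ↘ Spec (CommRingCat.of k))]
  {σ : Spec (CommRingCat.of k) ⟶ C} {hσ : σ ≫ (C ↘ Spec (CommRingCat.of k)) = 𝟙 (Spec (CommRingCat.of k))}
  {σ' : Spec (CommRingCat.of k) ⟶ C'} {hσ' : σ' ≫ (C' ↘ Spec (CommRingCat.of k)) = 𝟙 (Spec (CommRingCat.of k))}
  {J : Over (Spec (CommRingCat.of k))} [GrpObj J] [IsCommMonObj J] [IsProper J.hom]
  {ξ : Pic (PicF.XT (C ↘ Spec (CommRingCat.of k)) J)} {ξ' : Pic (PicF.XT (C' ↘ Spec (CommRingCat.of k)) J)}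
  (h : IsJac (C ↘ Spec (CommRingCat.of k)) σ hσ J ξ) (h' : IsJac (C' ↘ Spec (CommRingCat.of k)) σ' hσ' J ξ')
  {j : Over.mk (C ↘ Spec (CommRingCat.of k)) ⟶ J} (hj : IsAbel h j)
  {j' : Over.mk (C' ↘ Spec (CommRingCat.of k)) ⟶ J} (hj' : IsAbel h' j')

include hX hX' hj hj' in
theorem torelli_of_key (hGI : GeometricallyIntegral (C ↘ Spec (CommRingCat.of k)))
    (hg : 2 ≤ gen k C) (hgg : gen k C' = gen k C) (n : Pic C) (n' : Pic C')
    (hn : deg k C n = (gen k C : ℤ) - 1) (hn' : deg k C' n' = (gen k C' : ℤ) - 1)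
    (c₀ : 𝟙_ (Over (Spec (CommRingCat.of k))) ⟶ J)
    (key : ∀ b : 𝟙_ (Over (Spec (CommRingCat.of k))) ⟶ J,
      0 < CurvePic.h k C 0 (kcl h b * n) ↔ 0 < CurvePic.h k C' 0 (kcl h' b * kcl h' c₀ * n')) :
    ∃ (α : C ≅ C') (hα : α.hom ≫ (C' ↘ Spec (CommRingCat.of k)) = (C ↘ Spec (CommRingCat.of k)))
      (a : 𝟙_ (Over (Spec (CommRingCat.of k))) ⟶ J) (s : ℤ), (s = 1 ∨ s = -1) ∧
      Over.homMk (U := Over.mk (C ↘ Spec (CommRingCat.of k))) (V := Over.mk (C' ↘ Spec (CommRingCat.of k)))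
        α.hom hα ≫ j' = j ^ s * (toUnit (Over.mk (C ↘ Spec (CommRingCat.of k))) ≫ a) := by
  have hg1 : 1 ≤ gen k C := by omega
  obtain ⟨m1, hm1⟩ := exists_kcl hX h (c := n * pcl hX (sg hσ) ^ (gen k C - 1)) (by
    rw [deg_mul hX, deg_pow hX, deg_pcl, hn]
    push_cast [Nat.cast_sub hg1]
    ring)
  obtain ⟨m2, hm2⟩ := exists_kcl hX' h' (c := n' * pcl hX' (sg hσ') ^ (gen k C - 1)) (by
    rw [deg_mul hX', deg_pow hX', deg_pcl, hn', hgg]
    push_cast [Nat.cast_sub hg1]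
    ring)
  refine torelli hX hX' h h' hj hj' hGI hg hgg (Additive.ofMul (c₀ * m2 * m1⁻¹)) ?_
  intro x
  rw [mem_Wk hX' h' hj', mem_Wk hX h hj, kcl_sub]
  have e1 : kcl h' x.toMul * (pcl hX' (sg hσ'))⁻¹ ^ (gen k C - 1) =
      kcl h' (x.toMul * c₀⁻¹ * m2⁻¹) * kcl h' c₀ * n' := by
    rw [map_mul, map_mul, map_inv, map_inv, hm2]
    cgroup
  have e2 : kcl h x.toMul * (kcl h (Additive.ofMul (c₀ * m2 * m1⁻¹)).toMul)⁻¹ * (pcl hX (sg hσ))⁻¹ ^ (gen k C - 1) =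
      kcl h (x.toMul * c₀⁻¹ * m2⁻¹) * n := by
    have e3 : kcl h (Additive.ofMul (c₀ * m2 * m1⁻¹)).toMul = kcl h c₀ * kcl h m2 * (kcl h m1)⁻¹ := by
      change kcl h (c₀ * m2 * m1⁻¹) = _
      rw [map_mul, map_mul, map_inv]
    rw [e3, hm1, map_mul, map_mul, map_inv, map_inv]
    cgroup
  rw [e1, e2, key]

end K128.TorKey
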