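import Groth.Agent.JacVar.K128.BcJac
import Groth.Agent.JacVar.K128.BcMor
import Groth.Agent.JacVar.K533.TwoIso
import Groth.Agent.Jac.K914.HField

/-!
# Isomorphisms of curves over a field extension compatible with Abel maps defined over the base field

`s : Spec Ω ⟶ Spec k`, `α : C_Ω ≅ C'_Ω` with `j'(α x) = j₂(x)^ε c`, the Abel maps `j'`, `j₂` being defined over `k`: the base
changes of `α` along two `k`-morphisms `Spec K ⟶ Spec Ω` agree, `K` algebraically closed (`unique`).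
-/

set_option autoImplicit false
set_option linter.unusedSectionVars false
universe u
open CategoryTheory CategoryTheory.Limits AlgebraicGeometry MonoidalCategory CartesianMonoidalCategory MonObj

namespace K128.Uniq

open Groth.Agent Groth.Agent.Sga7.H732 Groth.Agent.Sga7.H732.Hedge Groth.Agent.Fga.RigGrp Groth.Agent.Grpsch.PicGrp
open Groth.Agent.Sga7.H734.JacBC Groth.Agent.Sga3B.BcPts Groth.Agent.Picfga.ChiDef
open Groth.Agent.Fga.JacSum K247.BC K247.GclBC K532.UnitBase K532.Dict K532.CurvePic K128.BcJac K128.BcMor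

theorem bcEquiv_symm_mul {k K : Type u} [Field k] [Field K] (s : Spec (CommRingCat.of K) ⟶ Spec (CommRingCat.of k))
    {T : Over (Spec (CommRingCat.of K))} {J : Over (Spec (CommRingCat.of k))} [GrpObj J] (x y : T ⟶ Red.bc s J) :
    (bcEquiv s T J).symm (x * y) = (bcEquiv s T J).symm x * (bcEquiv s T J).symm y :=
  map_mul (bcMulEquiv s T J).symm x y

theorem bcEquiv_symm_zpow {k K : Type u} [Field k] [Field K] (s : Spec (CommRingCat.of K) ⟶ Spec (CommRingCat.of k))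
    {T : Over (Spec (CommRingCat.of K))} {J : Over (Spec (CommRingCat.of k))} [GrpObj J] (x : T ⟶ Red.bc s J) (n : ℤ) :
    (bcEquiv s T J).symm (x ^ n) = ((bcEquiv s T J).symm x) ^ n :=
  map_zpow (bcMulEquiv s T J).symm x n

theorem bcEquiv_symm_inv {k K : Type u} [Field k] [Field K] (s : Spec (CommRingCat.of K) ⟶ Spec (CommRingCat.of k))
    {T : Over (Spec (CommRingCat.of K))} {J : Over (Spec (CommRingCat.of k))} [GrpObj J] (x : T ⟶ Red.bc s J) :
    (bcEquiv s T J).symm x⁻¹ = ((bcEquiv s T J).symm x)⁻¹ :=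
  map_inv (bcMulEquiv s T J).symm x

theorem comp_zpow {S : Scheme.{u}} {T T' J : Over S} [GrpObj J] (w : T' ⟶ T) (x : T ⟶ J) (n : ℤ) :
    w ≫ x ^ n = (w ≫ x) ^ n := by
  let φ : (T ⟶ J) →* (T' ⟶ J) :=
    { toFun := fun x => w ≫ x
      map_one' := MonObj.comp_one w
      map_mul' := fun x y => MonObj.comp_mul w x y }
  exact map_zpow φ x n

variable {k Ω K : Type u} [Field k] [Field Ω] [Field K] {C C' : Scheme.{u}} {f : C ⟶ Spec (CommRingCat.of k)}
  {f' : C' ⟶ Spec (CommRingCat.of k)} {s : Spec (CommRingCat.of Ω) ⟶ Spec (CommRingCat.of k)}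
  {t : Spec (CommRingCat.of K) ⟶ Spec (CommRingCat.of k)}

/-- A rational point of `C_K` as a point of `C_Ω`. -/
noncomputable def wp (i : Spec (CommRingCat.of K) ⟶ Spec (CommRingCat.of Ω)) (hi : i ≫ s = t)
    (u : Spec (CommRingCat.of K) ⟶ pullback f t) (hu : u ≫ pullback.snd f t = 𝟙 _) :
    (Over.map t).obj (𝟙_ (Over (Spec (CommRingCat.of K)))) ⟶ (Over.map s).obj (Over.mk (pullback.snd f s)) :=
  Over.homMk (u ≫ up i hi f) (by
    change (u ≫ up i hi f) ≫ pullback.snd f s ≫ s = 𝟙 _ ≫ t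
    rw [Category.assoc, up_snd_assoc, reassoc_of% hu, hi, Category.id_comp])

/-- `i` as a morphism over `k`. -/
noncomputable def wi (i : Spec (CommRingCat.of K) ⟶ Spec (CommRingCat.of Ω)) (hi : i ≫ s = t) :
    (Over.map t).obj (𝟙_ (Over (Spec (CommRingCat.of K)))) ⟶ (Over.map s).obj (𝟙_ (Over (Spec (CommRingCat.of Ω)))) :=
  Over.homMk i (by
    change i ≫ 𝟙 _ ≫ s = 𝟙 _ ≫ t
    rw [Category.id_comp, hi, Category.id_comp])

section

variable (i : Spec (CommRingCat.of K) ⟶ Spec (CommRingCat.of Ω)) (hi : i ≫ s = t)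
    (u : Spec (CommRingCat.of K) ⟶ pullback f t) (hu : u ≫ pullback.snd f t = 𝟙 _)

theorem wp_qm : wp i hi u hu ≫ qm s f = (Over.map t).map (Abel.ptHom (K532.UnitBase.pt _ u hu)) ≫ qm t f := by
  ext1
  change (u ≫ up i hi f) ≫ pullback.fst f s = u ≫ pullback.fst f t
  rw [Category.assoc, up_fst]

theorem wp_toUnit : wp i hi u hu ≫ (Over.map s).map (toUnit (Over.mk (pullback.snd f s))) = wi i hi := by
  ext1
  have h1 : (toUnit (Over.mk (pullback.snd f s))).left = pullback.snd f s := K532.Dict.toUnit_left _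
  change (u ≫ up i hi f) ≫ (toUnit (Over.mk (pullback.snd f s))).left = i
  rw [h1, Category.assoc, up_snd, reassoc_of% hu]

theorem wp_hom (φ : pullback f s ⟶ pullback f' s) (hφ : φ ≫ pullback.snd f' s = pullback.snd f s)
    (hu' : (u ≫ bcm i hi φ hφ) ≫ pullback.snd f' t = 𝟙 _) :
    wp i hi u hu ≫ (Over.map s).map (Over.homMk (U := Over.mk (pullback.snd f s)) (V := Over.mk (pullback.snd f' s)) φ hφ) ≫
      qm s f' = (Over.map t).map (Abel.ptHom (K532.UnitBase.pt _ (u ≫ bcm i hi φ hφ) hu')) ≫ qm t f' := by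
  ext1
  change (u ≫ up i hi f) ≫ φ ≫ pullback.fst f' s = (u ≫ bcm i hi φ hφ) ≫ pullback.fst f' t
  rw [Category.assoc, Category.assoc, bcm_fst]

end

variable {J : Over (Spec (CommRingCat.of k))} [GrpObj J]
  {j₂ : Over.mk f ⟶ J} {j' : Over.mk f' ⟶ J}
  (φ : pullback f s ⟶ pullback f' s) (hφ : φ ≫ pullback.snd f' s = pullback.snd f s) (ε : ℤ)
  (c : 𝟙_ (Over (Spec (CommRingCat.of Ω))) ⟶ Red.bc s J)
  (rel : Over.homMk (U := Over.mk (pullback.snd f s)) (V := Over.mk (pullback.snd f' s)) φ hφ ≫ jb s j' =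
    (jb s j₂) ^ ε * (toUnit (Over.mk (pullback.snd f s)) ≫ c))

include rel in
/-- The image in `J` of a point of `C'_K`. -/
theorem symm_pt (i : Spec (CommRingCat.of K) ⟶ Spec (CommRingCat.of Ω)) (hi : i ≫ s = t)
    (u : Spec (CommRingCat.of K) ⟶ pullback f t) (hu : u ≫ pullback.snd f t = 𝟙 _)
    (hu' : (u ≫ bcm i hi φ hφ) ≫ pullback.snd f' t = 𝟙 _) :
    (bcEquiv t (𝟙_ _) J).symm (Abel.ptHom (K532.UnitBase.pt _ (u ≫ bcm i hi φ hφ) hu') ≫ jb t j') =
      ((Over.map t).map (Abel.ptHom (K532.UnitBase.pt _ u hu)) ≫ qm t f ≫ j₂) ^ ε *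
        (wi i hi ≫ (bcEquiv s (𝟙_ _) J).symm c) := by
  rw [symm_comp_jb]
  have h1 : wp i hi u hu ≫ (bcEquiv s _ J).symm (Over.homMk (U := Over.mk (pullback.snd f s))
      (V := Over.mk (pullback.snd f' s)) φ hφ ≫ jb s j') =
      wp i hi u hu ≫ (bcEquiv s _ J).symm ((jb s j₂) ^ ε * (toUnit (Over.mk (pullback.snd f s)) ≫ c)) := by
    rw [rel]
  rw [symm_comp_jb, bcEquiv_symm_mul, bcEquiv_symm_zpow, comp_bcEquiv_symm, MonObj.comp_mul, comp_zpow] at h1
  have h2 : (bcEquiv s _ J).symm (jb s j₂) = qm s f ≫ j₂ := by rw [jb, Equiv.symm_apply_apply]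
  have h3 : wp i hi u hu ≫ qm s f ≫ j₂ = (Over.map t).map (Abel.ptHom (K532.UnitBase.pt _ u hu)) ≫ qm t f ≫ j₂ := by
    rw [← Category.assoc, wp_qm, Category.assoc]
  rw [h2, h3, ← Category.assoc (wp i hi u hu) ((Over.map s).map (toUnit _)), wp_toUnit] at h1
  rw [← h1]
  have h4 := wp_hom i hi u hu φ hφ hu'
  have h5 := congrArg (fun z => z ≫ j') h4
  simp only [Category.assoc] at h5
  exact h5.symm

variable [IsProper f] [Smooth f] [GeometricallyConnected f] [SmoothOfRelativeDimension 1 f]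
  [IsProper f'] [Smooth f'] [GeometricallyConnected f'] [SmoothOfRelativeDimension 1 f']
  {σ' : Spec (CommRingCat.of k) ⟶ C'} {hσ' : σ' ≫ f' = 𝟙 (Spec (CommRingCat.of k))}
  {ξ' : Pic (PicF.XT f' J)} (h' : IsJac f' σ' hσ' J ξ')

include h' in
/-- **Uniqueness.** -/
theorem unique [IsAlgClosed K] (hj' : IsAbel h' j') (α : pullback f s ≅ pullback f' s)
    (hα : α.hom ≫ pullback.snd f' s = pullback.snd f s)
    (rel : Over.homMk (U := Over.mk (pullback.snd f s)) (V := Over.mk (pullback.snd f' s)) α.hom hα ≫ jb s j' =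
      (jb s j₂) ^ ε * (toUnit (Over.mk (pullback.snd f s)) ≫ c))
    (hg : letI := overK f' t
      2 ≤ gen K (PicF.XT f' (Over.mk t)))
    (i₁ i₂ : Spec (CommRingCat.of K) ⟶ Spec (CommRingCat.of Ω)) (h₁ : i₁ ≫ s = t) (h₂ : i₂ ≫ s = t) :
    bcm i₁ h₁ α.hom hα = bcm i₂ h₂ α.hom hα := by
  let _ := overK f' t
  let _ := overK f t
  have hX : IsCurve K (PicF.XT f' (Over.mk t)) := K914.HField.isCurve f' t
  have hY : IsCurve K (PicF.XT f (Over.mk t)) := K914.HField.isCurve f t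
  have := hY.integral
  have hsm : SmoothOfRelativeDimension 1 (pullback.snd f' t) := Groth.Agent.Fga.JacSum.smoothOfRelDim_XTproj f' (Over.mk t)
  have : SmoothOfRelativeDimension 1 (PicF.XT f' (Over.mk t) ↘ Spec (CommRingCat.of K)) := hsm
  have : IsProper (PicF.XT f' (Over.mk t) ↘ Spec (CommRingCat.of K)) := inferInstanceAs (IsProper (pullback.snd f' t))
  have : LocallyOfFiniteType (PicF.XT f (Over.mk t) ↘ Spec (CommRingCat.of K)) :=
    inferInstanceAs (LocallyOfFiniteType (pullback.snd f t))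
  have hiso : IsIso (bcm i₂ h₂ α.hom hα) := isIso_bcm i₂ h₂ α hα
  refine K533.TwoIso.hom_eq (k := K) (X := PicF.XT f' (Over.mk t)) (Y := PicF.XT f (Over.mk t)) hX
    (hJ := isJac_bc t h') (j := jb t j') (isAbel_bc t h' hj') hg (bcm i₁ h₁ α.hom hα) (bcm i₂ h₂ α.hom hα)
    (bcm_snd i₁ h₁ α.hom hα) (bcm_snd i₂ h₂ α.hom hα) ?_
  intro u v hu hv
  have hsec : ∀ (i : Spec (CommRingCat.of K) ⟶ Spec (CommRingCat.of Ω)) (hi : i ≫ s = t)
      (w : Spec (CommRingCat.of K) ⟶ pullback f t) (_ : w ≫ pullback.snd f t = 𝟙 _),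
      (w ≫ bcm i hi α.hom hα) ≫ pullback.snd f' t = 𝟙 _ := by
    intro i hi w hw
    rw [Category.assoc, bcm_snd, hw]
  apply (bcEquiv t (𝟙_ _) J).symm.injective
  rw [bcEquiv_symm_mul, bcEquiv_symm_inv, bcEquiv_symm_mul, bcEquiv_symm_inv]
  have hu1 : (u ≫ bcm i₁ h₁ α.hom hα) ≫ pullback.snd f' t = 𝟙 _ := hsec i₁ h₁ u hu
  have hu2 : (u ≫ bcm i₂ h₂ α.hom hα) ≫ pullback.snd f' t = 𝟙 _ := hsec i₂ h₂ u hu
  have hv1 : (v ≫ bcm i₁ h₁ α.hom hα) ≫ pullback.snd f' t = 𝟙 _ := hsec i₁ h₁ v hv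
  have hv2 : (v ≫ bcm i₂ h₂ α.hom hα) ≫ pullback.snd f' t = 𝟙 _ := hsec i₂ h₂ v hv
  have eu1 := symm_pt α.hom hα ε c rel i₁ h₁ u hu hu1
  have eu2 := symm_pt α.hom hα ε c rel i₂ h₂ u hu hu2
  have ev1 := symm_pt α.hom hα ε c rel i₁ h₁ v hv hv1
  have ev2 := symm_pt α.hom hα ε c rel i₂ h₂ v hv hv2
  refine (congrArg₂ (fun a b => a * b⁻¹) eu1 ev1).trans (Eq.trans ?_ (congrArg₂ (fun a b => a * b⁻¹) eu2 ev2).symm)
  simp only [mul_inv_rev]
  group

end K128.Uniq
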