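import Groth.Agent.JacVar.K128.TorK
import Groth.Agent.JacVar.K128.Uniq
import Groth.Agent.JacVar.K128.ThetaPt

/-!
# Torelli's theorem over a perfect field for curves with rational points
-/

set_option autoImplicit false
set_option linter.unusedSectionVars false
universe u
open CategoryTheory CategoryTheory.Limits AlgebraicGeometry MonoidalCategory CartesianMonoidalCategory
open scoped MonObj

namespace K128.TorPerf

open Groth.Agent Groth.Agent.Grpsch.PicGrp Groth.Agent.Fga.RigGrp Groth.Agent.Sga7.H732.Hedge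
open Groth.Agent.Sga7.H732 K532.UnitBase K532.CurvePic K532.CurvePts K532.Dict Groth.Agent.Fga.JacSum
open Groth.Agent.Picfga.ChiDef K914.HField K533.Cst
open K532.Theta1 K531.ThetaLoc K128.BcJac K128.BcMor K128.TorK K128.Uniq

section gen

variable (k : Type u) [Field k] (C : Scheme.{u}) [C.Over (Spec (CommRingCat.of k))]
  [IsProper (C ↘ Spec (CommRingCat.of k))] [Smooth (C ↘ Spec (CommRingCat.of k))]
  [GeometricallyConnected (C ↘ Spec (CommRingCat.of k))]
  [SmoothOfRelativeDimension 1 (C ↘ Spec (CommRingCat.of k))]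
  {K : Type u} [Field K] (t : Spec (CommRingCat.of K) ⟶ Spec (CommRingCat.of k))

theorem gen_bc :
    (letI := overK (C ↘ Spec (CommRingCat.of k)) t
     gen K (PicF.XT (C ↘ Spec (CommRingCat.of k)) (Over.mk t))) = gen k C := by
  let _ := overK (C ↘ Spec (CommRingCat.of k)) t
  have h1 := K914.Curve.chiK_one k C t
  have h2 := hK_sub (C ↘ Spec (CommRingCat.of k)) t 1
  have h3 : hK (C ↘ Spec (CommRingCat.of k)) t 0 1 = 1 := K532.CurvePic.h0_one (isCurve _ t)
  have h4 : hK (C ↘ Spec (CommRingCat.of k)) t 1 1 =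
      gen K (PicF.XT (C ↘ Spec (CommRingCat.of k)) (Over.mk t)) := by
    change K532.CurvePic.h K (PicF.XT (C ↘ Spec (CommRingCat.of k)) (Over.mk t)) 1 1 = _
    rw [one_def, h_mk]
    rfl
  rw [h1, h3, h4] at h2
  change gen K (PicF.XT (C ↘ Spec (CommRingCat.of k)) (Over.mk t)) = Curv2.genus k C
  omega

theorem deg_cst (c : Pic C) :
    (letI := overK (C ↘ Spec (CommRingCat.of k)) t
     deg K (PicF.XT (C ↘ Spec (CommRingCat.of k)) (Over.mk t)) (cst (C ↘ Spec (CommRingCat.of k)) (Over.mk t) c)) =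
      deg k C c :=
  (deg_eq_dK (C ↘ Spec (CommRingCat.of k)) t _).trans (chiK_pull_fst t c)

end gen

theorem main (k : Type u) [Field k] [PerfectField k]
    (C : Scheme.{u}) [C.Over (Spec (CommRingCat.of k))]
    [IsProper (C ↘ Spec (CommRingCat.of k))] [Smooth (C ↘ Spec (CommRingCat.of k))] [GeometricallyConnected (C ↘ Spec (CommRingCat.of k))]
    (hdim : topologicalKrullDim ↥C = 1)
    (C' : Scheme.{u}) [C'.Over (Spec (CommRingCat.of k))]
    [IsProper (C' ↘ Spec (CommRingCat.of k))] [Smooth (C' ↘ Spec (CommRingCat.of k))] [GeometricallyConnected (C' ↘ Spec (CommRingCat.of k))]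
    (hdim' : topologicalKrullDim ↥C' = 1)
    (g : ℕ) (hg : Curv2.genus k C = g) (hg' : Curv2.genus k C' = g) (hg2 : 2 ≤ g)
    (σ : Spec (CommRingCat.of k) ⟶ C) (hσ : σ ≫ (C ↘ Spec (CommRingCat.of k)) = 𝟙 _) (σ' : Spec (CommRingCat.of k) ⟶ C') (hσ' : σ' ≫ (C' ↘ Spec (CommRingCat.of k)) = 𝟙 _)
    (J : Over (Spec (CommRingCat.of k))) [GrpObj J] [IsCommMonObj J]
    (ψ : (ModFun.PicDeg (C ↘ Spec (CommRingCat.of k)) 0).Hom ⊤ J) (hJ : Jac.IsJacobian (C ↘ Spec (CommRingCat.of k)) ⊤ J ψ)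
    (J' : Over (Spec (CommRingCat.of k))) [GrpObj J'] [IsCommMonObj J']
    (ψ' : (ModFun.PicDeg (C' ↘ Spec (CommRingCat.of k)) 0).Hom ⊤ J') (hJ' : Jac.IsJacobian (C' ↘ Spec (CommRingCat.of k)) ⊤ J' ψ')
    (N : C.Modules) (hN : PicF.IsInvertible N) (hNdeg : Curv2.deg k C N 1 = (g : ℤ) - 1)
    (N' : C'.Modules) (hN' : PicF.IsInvertible N') (hNdeg' : Curv2.deg k C' N' 1 = (g : ℤ) - 1)
    (β : J ≅ J') [IsMonHom β.hom] (c₀ : 𝟙_ (Over (Spec (CommRingCat.of k))) ⟶ J')
    (hβ : β.hom.left.base '' Jac.thetaLocus (C ↘ Spec (CommRingCat.of k)) 0 ψ N =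
      (Jac.transl J' c₀).left.base ⁻¹' Jac.thetaLocus (C' ↘ Spec (CommRingCat.of k)) 0 ψ' N') :
    ∃ α : C ≅ C', α.hom ≫ (C' ↘ Spec (CommRingCat.of k)) = (C ↘ Spec (CommRingCat.of k)) := by
  have hcX := K532.Base.isSmoothProperCurve (C ↘ Spec (CommRingCat.of k)) hdim
  have hcX' := K532.Base.isSmoothProperCurve (C' ↘ Spec (CommRingCat.of k)) hdim'
  have hrel : SmoothOfRelativeDimension 1 (C ↘ Spec (CommRingCat.of k)) := Groth.Agent.Fga.JacAlg.smoothOfRelDim hcX
  have hrel' : SmoothOfRelativeDimension 1 (C' ↘ Spec (CommRingCat.of k)) :=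
    Groth.Agent.Fga.JacAlg.smoothOfRelDim hcX'
  obtain ⟨ξ, h, hc, hp, -⟩ := K532.Setup.exists_isJac Groth.Agent.Sga7.H780.JK.jk hdim σ hσ hJ
  obtain ⟨ξ', h', hc', hp', -⟩ := K532.Setup.exists_isJac Groth.Agent.Sga7.H780.JK.jk hdim' σ' hσ' hJ'
  obtain ⟨j, hA⟩ := Abel.exists_abel h hcX
  obtain ⟨j', hA'⟩ := Abel.exists_abel h' hcX'
  have hmon : IsMonHom β.symm.hom := inferInstanceAs (IsMonHom β.inv)
  have h₂ := K532.Fine.isJac_of_iso h β.symm
  have hA₂ : IsAbel h₂ (j ≫ β.hom) := by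
    intro T z
    have h1 := hA T z
    rw [Abel.cls_apply] at h1 ⊢
    rw [← pull_comp, ← XTmap_comp]
    have h2 : (Abel.ptHom z ≫ j ≫ β.hom) ≫ β.symm.hom = Abel.ptHom z ≫ j := by
      rw [Category.assoc, Category.assoc, Iso.symm_hom, Iso.hom_inv_id, Category.comp_id]
    rw [h2]
    exact h1
  subst hg
  have hdN : deg k C (mk N hN) = (gen k C : ℤ) - 1 := by rw [deg_mk k C hdim]; exact hNdeg
  have hdN' : deg k C' (mk N' hN') = (gen k C' : ℤ) - 1 := by
    rw [deg_mk k C' hdim', hNdeg', ← hg']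
  let Ω : Type u := AlgebraicClosure k
  let s : Spec (CommRingCat.of Ω) ⟶ Spec (CommRingCat.of k) := Spec.map (CommRingCat.ofHom (algebraMap k Ω))
  let _ := overK (C ↘ Spec (CommRingCat.of k)) s
  let _ := overK (C' ↘ Spec (CommRingCat.of k)) s
  have hX : IsCurve Ω (PicF.XT (C ↘ Spec (CommRingCat.of k)) (Over.mk s)) := isCurve _ s
  have hX' : IsCurve Ω (PicF.XT (C' ↘ Spec (CommRingCat.of k)) (Over.mk s)) := isCurve _ s
  have h3 : SmoothOfRelativeDimension 1 (pullback.snd (C ↘ Spec (CommRingCat.of k)) s) :=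
    smoothOfRelDim_XTproj (C ↘ Spec (CommRingCat.of k)) (Over.mk s)
  have h3' : SmoothOfRelativeDimension 1 (pullback.snd (C' ↘ Spec (CommRingCat.of k)) s) :=
    smoothOfRelDim_XTproj (C' ↘ Spec (CommRingCat.of k)) (Over.mk s)
  have h4 : SmoothOfRelativeDimension 1 (PicF.XT (C ↘ Spec (CommRingCat.of k)) (Over.mk s) ↘ Spec (CommRingCat.of Ω)) := h3
  have h4' : SmoothOfRelativeDimension 1 (PicF.XT (C' ↘ Spec (CommRingCat.of k)) (Over.mk s) ↘ Spec (CommRingCat.of Ω)) := h3'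
  have h5 : IsProper (PicF.XT (C ↘ Spec (CommRingCat.of k)) (Over.mk s) ↘ Spec (CommRingCat.of Ω)) :=
    inferInstanceAs (IsProper (pullback.snd (C ↘ Spec (CommRingCat.of k)) s))
  have h5' : IsProper (PicF.XT (C' ↘ Spec (CommRingCat.of k)) (Over.mk s) ↘ Spec (CommRingCat.of Ω)) :=
    inferInstanceAs (IsProper (pullback.snd (C' ↘ Spec (CommRingCat.of k)) s))
  have hGI : GeometricallyIntegral (PicF.XT (C ↘ Spec (CommRingCat.of k)) (Over.mk s) ↘ Spec (CommRingCat.of Ω)) :=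
    K532.Base.geometricallyIntegral (pullback.snd (C ↘ Spec (CommRingCat.of k)) s)
  have hpJ : IsProper (Red.bc s J').hom := inferInstanceAs (IsProper (pullback.snd J'.hom s))
  have hcJ : IsCommMonObj (Red.bc s J') := inferInstance
  have hgen := gen_bc k C s
  have hgen' := gen_bc k C' s
  let c₁ : Over.mk s ⟶ J' := toUnit (Over.mk s) ≫ c₀
  have key : ∀ x : Over.mk s ⟶ J',
      0 < K532.CurvePic.h Ω (PicF.XT (C ↘ Spec (CommRingCat.of k)) (Over.mk s)) 0
        (pull (PicF.XTmap (C ↘ Spec (CommRingCat.of k)) x) (pull (PicF.XTmap (C ↘ Spec (CommRingCat.of k)) β.symm.hom) ξ) *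
          cst (C ↘ Spec (CommRingCat.of k)) (Over.mk s) (mk N hN)) ↔
      0 < K532.CurvePic.h Ω (PicF.XT (C' ↘ Spec (CommRingCat.of k)) (Over.mk s)) 0
        (pull (PicF.XTmap (C' ↘ Spec (CommRingCat.of k)) x) ξ' * pull (PicF.XTmap (C' ↘ Spec (CommRingCat.of k)) c₁) ξ' *
          cst (C' ↘ Spec (CommRingCat.of k)) (Over.mk s) (mk N' hN')) := by
    intro x
    let p : Spec (CommRingCat.of Ω) := IsLocalRing.closedPoint Ω
    have e1 := ThetaPt.mem_theta_iff h (K533.ThetaLocus.compatCl_of_compat hc) hcX hN (x ≫ β.inv) p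
    have e2 := ThetaPt.mem_theta_iff h' (K533.ThetaLocus.compatCl_of_compat hc') hcX' hN' (x * c₁) p
    rw [h'.mul] at e2
    have e3 : pull (PicF.XTmap (C ↘ Spec (CommRingCat.of k)) (x ≫ β.inv)) ξ =
        pull (PicF.XTmap (C ↘ Spec (CommRingCat.of k)) x) (pull (PicF.XTmap (C ↘ Spec (CommRingCat.of k)) β.symm.hom) ξ) := by
      rw [← pull_comp, ← XTmap_comp]
      rfl
    rw [e3] at e1
    refine e1.symm.trans (Iff.trans ?_ e2)
    have e4 : x * c₁ = x ≫ Jac.transl J' c₀ := (comp_transl x c₀).symm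
    have e5 : (x * c₁).left p ∈ Jac.thetaLocus (C' ↘ Spec (CommRingCat.of k)) 0 ψ' N' ↔
        x.left p ∈ (Jac.transl J' c₀).left.base ⁻¹' Jac.thetaLocus (C' ↘ Spec (CommRingCat.of k)) 0 ψ' N' := by
      rw [e4]
      exact Iff.rfl
    have e6 : (β.hom.left) ((x ≫ β.inv).left p) = x.left p := by
      have h6 : (x ≫ β.inv) ≫ β.hom = x := by rw [Category.assoc, Iso.inv_hom_id, Category.comp_id]
      conv_rhs => rw [← h6]
      rfl
    rw [e5, ← hβ]
    constructor
    · intro hm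
      exact ⟨_, hm, e6⟩
    · rintro ⟨y, hy, hyx⟩
      have h7 : (x ≫ β.inv).left p = y := by
        have h8 : β.hom.left ≫ β.inv.left = 𝟙 _ := by
          rw [← Over.comp_left, Iso.hom_inv_id]; rfl
        have h9 : β.inv.left (β.hom.left y) = y := by
          have := congrArg (fun m => m y) h8
          exact this
        rw [← h9]
        have h10 : β.hom.left y = x.left p := hyx
        rw [h10]
        rfl
      rw [h7]
      exact hy
  obtain ⟨α, hα, c, ε, -, rel⟩ := TorKey.torelli_of_key (k := Ω)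
    (C := PicF.XT (C ↘ Spec (CommRingCat.of k)) (Over.mk s))
    (C' := PicF.XT (C' ↘ Spec (CommRingCat.of k)) (Over.mk s)) hX hX'
    (isJac_bc s h₂) (isJac_bc s h') (isAbel_bc s h₂ hA₂) (isAbel_bc s h' hA') hGI
    (by rw [hgen]; exact hg2) (by rw [hgen, hgen']; exact hg')
    (cst (C ↘ Spec (CommRingCat.of k)) (Over.mk s) (mk N hN))
    (cst (C' ↘ Spec (CommRingCat.of k)) (Over.mk s) (mk N' hN'))
    (by rw [hgen]; exact (deg_cst k C s _).trans hdN) (by rw [hgen']; exact (deg_cst k C' s _).trans hdN')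
    (sh s c₁) (fun b => by
      have e1 := kcl_bc s h₂ b
      have e2 := kcl_bc s h' b
      have e3 := kcl_bc s h' (sh s c₁)
      rw [fl_sh] at e3
      exact (Iff.trans (Eq.to_iff (congrArg (fun z : Pic (PicF.XT (C ↘ Spec (CommRingCat.of k)) (Over.mk s)) =>
        0 < K532.CurvePic.h Ω (PicF.XT (C ↘ Spec (CommRingCat.of k)) (Over.mk s)) 0
          (z * cst (C ↘ Spec (CommRingCat.of k)) (Over.mk s) (mk N hN))) e1)) (key (fl s b))).trans
        (Eq.to_iff (congrArg₂ (fun z w : Pic (PicF.XT (C' ↘ Spec (CommRingCat.of k)) (Over.mk s)) =>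
          0 < K532.CurvePic.h Ω (PicF.XT (C' ↘ Spec (CommRingCat.of k)) (Over.mk s)) 0
            (z * w * cst (C' ↘ Spec (CommRingCat.of k)) (Over.mk s) (mk N' hN'))) e2 e3)).symm)
  have hr : IsReduced (pullback (C ↘ Spec (CommRingCat.of k)) s) := by
    have := hX.integral
    exact inferInstanceAs (IsReduced (PicF.XT (C ↘ Spec (CommRingCat.of k)) (Over.mk s)))
  have hr' : IsReduced (pullback (C' ↘ Spec (CommRingCat.of k)) s) := by
    have := hX'.integral
    exact inferInstanceAs (IsReduced (PicF.XT (C' ↘ Spec (CommRingCat.of k)) (Over.mk s)))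
  refine exists_desc (f := C ↘ Spec (CommRingCat.of k)) (f' := C' ↘ Spec (CommRingCat.of k)) (s := s) α hα ?_
  intro K _ _ t i₁ i₂ h₁ h₂'
  exact unique ε c h' hA' α hα rel (by rw [gen_bc k C' t]; exact hg2.trans hg'.symm.le) i₁ i₂ h₁ h₂'

end K128.TorPerf
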